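import Cfsg.Agent.EqLemmas

/-!
Transfer evaluation under control of fusion, and index two subgroups from homomorphisms.

* `transfer_eq_pow_of_controlled`: if conjugates of powers of `g` in `H` have the image of that power,
  then `transfer φ g = φ g ^ H.index`.
* `eq_one_of_pow_eq_one_of_coprime`.
* `exists_index_two_of_hom`: a nontrivial homomorphism to a finite 2-group yields a subgroup of index 2.
-/

set_option autoImplicit false

namespace Cfsg.Agent.TwoFusion

theorem eq_one_of_pow_eq_one_of_coprime {M : Type*} [Monoid M] {x : M} {m n : ℕ}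
    (hm : x ^ m = 1) (hn : x ^ n = 1) (h : Nat.Coprime m n) : x = 1 :=
  orderOf_eq_one_iff.mp (Nat.eq_one_of_dvd_coprimes h
    (orderOf_dvd_of_pow_eq_one hm) (orderOf_dvd_of_pow_eq_one hn))

variable {G : Type*} [Group G] {H : Subgroup G} {A : Type*} [CommGroup A]

theorem transfer_eq_pow_of_controlled [Finite G] (φ : H →* A) (g : H)
    (key : ∀ (k : ℕ) (a : G) (hm : a * (g : G) ^ k * a⁻¹ ∈ H),
      φ ⟨a * (g : G) ^ k * a⁻¹, hm⟩ = φ g ^ k) :
    MonoidHom.transfer φ (g : G) = φ g ^ H.index := by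
  classical
  let _ := H.fintypeQuotientOfFiniteIndex
  haveI : Fintype (Quotient (MulAction.orbitRel (Subgroup.zpowers (g : G)) (G ⧸ H))) :=
    Fintype.ofFinite _
  rw [MonoidHom.transfer_eq_prod_quotient_orbitRel_zpowers_quot, Subgroup.index_eq_sum_minimalPeriod H (g : G),
    ← Finset.prod_pow_eq_pow_sum]
  refine Finset.prod_congr rfl fun q _ => ?_
  have hm := QuotientGroup.out_conj_pow_minimalPeriod_mem H (g : G) q.out
  have hm' : (q.out.out)⁻¹ * (g : G) ^ Function.minimalPeriod ((g : G) • ·) q.out * ((q.out.out)⁻¹)⁻¹ ∈ H := by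
    rwa [inv_inv]
  have := key _ _ hm'
  simpa [inv_inv] using this

theorem exists_index_two_of_hom [Finite G] {P : Type*} [Group P] [Finite P] (hP : IsPGroup 2 P)
    (f : G →* P) (hf : f ≠ 1) : ∃ K : Subgroup G, K.index = 2 := by
  have hR : IsPGroup 2 f.range := hP.to_subgroup _
  obtain ⟨k, hk⟩ := hR.exists_card_eq
  have hk0 : k ≠ 0 := by
    intro h0
    rw [h0, pow_zero, Subgroup.card_eq_one, MonoidHom.range_eq_bot_iff] at hk
    exact hf hk
  obtain ⟨j, rfl⟩ := Nat.exists_eq_succ_of_ne_zero hk0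
  haveI : Fact (Nat.Prime 2) := ⟨Nat.prime_two⟩
  obtain ⟨L, hL⟩ := Sylow.exists_subgroup_card_pow_prime (G := f.range) 2 (n := j)
    (by rw [hk]; exact pow_dvd_pow 2 (Nat.le_succ j))
  refine ⟨L.comap f.rangeRestrict, ?_⟩
  rw [Subgroup.index_comap_of_surjective _ f.rangeRestrict_surjective]
  have h1 := L.card_mul_index
  rw [hL, hk, pow_succ] at h1
  exact Nat.eq_of_mul_eq_mul_left (by positivity) h1

end Cfsg.Agent.TwoFusion
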