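import Cfsg.Agent.Lib.TwoFusion.ElemCentralizers

/-!
A group with elementary abelian involution centralizers (Sylow 2-subgroup neither cyclic nor normal) is
isomorphic to `PSL(2, q)`, `q` the order of a Sylow 2-subgroup.

* `exists_field_structure`: the field on `T`, with the two point stabilizer as multiplicative group.
* `equiv_psl`: the isomorphism.
-/

set_option autoImplicit false

open MulAction

namespace Cfsg.Agent.TwoFusion.ElemCent

variable {G : Type*} [Group G] [Finite G] {T : Sylow 2 G}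

/-- A bare copy of `Fin k`, to carry the constructed field. -/
def Carrier (k : ℕ) : Type := Fin k

theorem exists_field_structure (h : Hyp T) (D : Subgroup G) (hDH : D ≤ H T) (hDab : ∀ a ∈ D, ∀ b ∈ D, a * b = b * a)
    (hDcard : Nat.card D = m T) (hDfree : ∀ d ∈ D, d ∈ (T : Subgroup G) → d = 1)
    (e : G) (he : e ∈ (T : Subgroup G)) (he1 : e ≠ 1) :
    ∃ (F : Type) (_ : Field F) (_ : Fintype F) (θ : F ≃ (T : Subgroup G)),
      Fintype.card F = Nat.card T ∧ CharP F 2 ∧ (∀ a b : F, θ (a + b) = θ a * θ b) ∧ (θ 1 : G) = e ∧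
      (∀ s : F, s ≠ 0 → ∃ d ∈ D, d * e * d⁻¹ = θ s) ∧
      (∀ d ∈ D, ∀ s : F, d * e * d⁻¹ = θ s → ∀ x : F, d * θ x * d⁻¹ = θ (s * x)) := by
  classical
  have hexists : ∀ a : (T : Subgroup G), a ≠ 1 → ∃! d : D, (d : G) * e * (d : G)⁻¹ = a := by
    let f : D → Inv (T : Subgroup G) := fun d => ⟨(d : G) * e * (d : G)⁻¹, conj_T (hDH d.2) he, by simpa using he1⟩
    have hinj : Function.Injective f := by
      intro a b hab
      have h1 : (a : G) * e * (a : G)⁻¹ = (b : G) * e * (b : G)⁻¹ := congrArg Subtype.val hab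
      have h2 : (b : G)⁻¹ * a ∈ (T : Subgroup G) := by
        rw [← centralizer_eq h he he1, Subgroup.mem_centralizer_singleton_iff]
        calc (b : G)⁻¹ * a * e = (b : G)⁻¹ * ((a : G) * e * (a : G)⁻¹) * a := by group
          _ = (b : G)⁻¹ * ((b : G) * e * (b : G)⁻¹) * a := by rw [h1]
          _ = e * ((b : G)⁻¹ * a) := by group
      exact Subtype.ext (inv_mul_eq_one.mp (hDfree _ (D.mul_mem (D.inv_mem b.2) a.2) h2)).symm
    have hbij := hinj.bijective_of_nat_card_le (by rw [card_inv, hDcard])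
    intro a ha
    obtain ⟨d, hd⟩ := hbij.2 ⟨a, a.2, fun h1 => ha (Subtype.ext h1)⟩
    exact ⟨d, congrArg Subtype.val hd, fun d' hd' => hinj (Subtype.ext (hd'.trans (congrArg Subtype.val hd).symm))⟩
  choose ψ hψ hψu using hexists
  simp only at hψ hψu
  let c : ↥(T : Subgroup G) → ↥(T : Subgroup G) → ↥(T : Subgroup G) := fun a b =>
    if ha : a = 1 then 1 else ⟨(ψ a ha : G) * b * (ψ a ha : G)⁻¹, conj_T (hDH (ψ a ha).2) b.2⟩
  have hc : ∀ a b, ∀ ha : a ≠ 1, (c a b : G) = (ψ a ha : G) * b * (ψ a ha : G)⁻¹ := by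
    intro a b ha
    simp only [c, dif_neg ha]
  let e' : (T : Subgroup G) := ⟨e, he⟩
  have he' : e' ≠ 1 := fun h1 => he1 (congrArg Subtype.val h1)
  have c_one_left : ∀ b, c 1 b = 1 := fun b => by simp [c]
  have c_one_right : ∀ a, c a 1 = 1 := by
    intro a
    by_cases ha : a = 1
    · rw [ha, c_one_left]
    · exact Subtype.ext (by rw [hc a 1 ha]; simp)
  have c_e : ∀ a, c a e' = a := by
    intro a
    by_cases ha : a = 1
    · rw [ha, c_one_left]
    · exact Subtype.ext ((hc a e' ha).trans (hψ a ha))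
  have ψ_e : (ψ e' he' : G) = 1 := by
    rw [show ψ e' he' = 1 from (hψu e' he' 1 (by simp [e'])).symm]
    rfl
  have e_c : ∀ b, c e' b = b := fun b => Subtype.ext (by rw [hc e' b he', ψ_e]; simp)
  have c_distrib : ∀ a b b', c a (b * b') = c a b * c a b' := by
    intro a b b'
    by_cases ha : a = 1
    · simp [ha, c_one_left]
    · refine Subtype.ext ?_
      rw [Subgroup.coe_mul, hc a _ ha, hc a b ha, hc a b' ha, Subgroup.coe_mul]
      group
  have c_ne : ∀ a b, a ≠ 1 → b ≠ 1 → c a b ≠ 1 := by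
    intro a b ha hb h1
    refine hb (Subtype.ext ?_)
    have := (hc a b ha).symm.trans (congrArg Subtype.val h1)
    simpa using this
  have ψ_c : ∀ a b, ∀ ha : a ≠ 1, ∀ hb : b ≠ 1,
      (ψ (c a b) (c_ne a b ha hb) : G) = (ψ a ha : G) * ψ b hb := by
    intro a b ha hb
    rw [← hψu (c a b) (c_ne a b ha hb) (ψ a ha * ψ b hb) ?_]
    · rfl
    · rw [hc a b ha]
      conv_rhs => rw [← hψ b hb]
      rw [Subgroup.coe_mul]
      group
  have c_comm : ∀ a b, c a b = c b a := by
    intro a b
    by_cases ha : a = 1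
    · rw [ha, c_one_left, c_one_right]
    by_cases hb : b = 1
    · rw [hb, c_one_left, c_one_right]
    refine Subtype.ext ?_
    have h1 := hψ _ (c_ne a b ha hb)
    have h2 := hψ _ (c_ne b a hb ha)
    rw [← h1, ← h2, ψ_c a b ha hb, ψ_c b a hb ha, hDab _ (ψ a ha).2 _ (ψ b hb).2]
  have c_assoc : ∀ a b x, c (c a b) x = c a (c b x) := by
    intro a b x
    by_cases ha : a = 1
    · simp [ha, c_one_left]
    by_cases hb : b = 1
    · simp [hb, c_one_left, c_one_right]
    refine Subtype.ext ?_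
    rw [hc _ x (c_ne a b ha hb), ψ_c a b ha hb, hc a _ ha, hc b x hb]
    group
  let inv' : ↥(T : Subgroup G) → ↥(T : Subgroup G) := fun a =>
    if ha : a = 1 then 1 else ⟨(ψ a ha : G)⁻¹ * e * (ψ a ha : G), by
      simpa using conj_T (hDH (D.inv_mem (ψ a ha).2)) he⟩
  have c_inv : ∀ a, a ≠ 1 → c a (inv' a) = e' := by
    intro a ha
    refine Subtype.ext ?_
    rw [hc a _ ha]
    simp only [inv', dif_neg ha, e']
    group
  have T_comm : ∀ a b : (T : Subgroup G), a * b = b * a := fun a b => Subtype.ext (comm_T h a.2 b.2)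
  have T_sq : ∀ a : (T : Subgroup G), a * a = 1 := fun a => Subtype.ext (by simpa [sq] using sq_T h a.2)
  let F := Carrier (Nat.card (T : Subgroup G))
  let θ : F ≃ (T : Subgroup G) := (Finite.equivFin (T : Subgroup G)).symm
  letI : Add F := ⟨fun a b => θ.symm (θ a * θ b)⟩
  letI : Mul F := ⟨fun a b => θ.symm (c (θ a) (θ b))⟩
  letI : Neg F := ⟨fun a => a⟩
  letI : Zero F := ⟨θ.symm 1⟩
  letI : One F := ⟨θ.symm e'⟩
  letI : _root_.Inv F := ⟨fun a => θ.symm (inv' (θ a))⟩
  have θadd : ∀ a b : F, θ (a + b) = θ a * θ b := fun a b => θ.apply_symm_apply _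
  have θmul : ∀ a b : F, θ (a * b) = c (θ a) (θ b) := fun a b => θ.apply_symm_apply _
  have θzero : θ 0 = 1 := θ.apply_symm_apply _
  have θone : θ 1 = e' := θ.apply_symm_apply _
  letI : Field F := Field.ofMinimalAxioms F
    (fun a b c => θ.injective (by simp only [θadd, mul_assoc]))
    (fun a => θ.injective (by simp only [θadd, θzero, one_mul]))
    (fun a => θ.injective (by rw [θadd, θzero]; exact T_sq _))
    (fun a b c => θ.injective (by simp only [θmul, c_assoc]))
    (fun a b => θ.injective (by simp only [θmul]; exact c_comm _ _))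
    (fun a => θ.injective (by simp only [θmul, θone, e_c]))
    (fun a ha => θ.injective (by
      have h1 : θ a ≠ 1 := fun h1 => ha (θ.injective (h1.trans θzero.symm))
      rw [θmul, show θ a⁻¹ = inv' (θ a) from θ.apply_symm_apply _, θone, c_inv _ h1]))
    (θ.injective (by rw [show θ (0 : F)⁻¹ = inv' (θ 0) from θ.apply_symm_apply _, θzero]; simp [inv']))
    (fun a b x => θ.injective (by simp only [θmul, θadd, c_distrib]))
    ⟨0, 1, fun h1 => he' (by rw [← θone, ← h1, θzero])⟩
  letI : Fintype F := @Fintype.ofFinite F (Finite.of_equiv _ (Finite.equivFin (T : Subgroup G)))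
  refine ⟨F, inferInstance, inferInstance, θ, ?_, ?_, θadd, ?_, ?_, ?_⟩
  · rw [← Nat.card_eq_fintype_card]
    exact Nat.card_congr θ
  · refine CharTwo.of_one_ne_zero_of_two_eq_zero one_ne_zero ?_
    rw [← one_add_one_eq_two]
    exact θ.injective (by rw [θadd, θzero]; exact T_sq _)
  · rw [θone]
  · intro s hs
    have h1 : θ s ≠ 1 := fun h1 => hs (θ.injective (h1.trans θzero.symm))
    exact ⟨_, (ψ (θ s) h1).2, hψ _ h1⟩
  · intro d hd s hs x
    have h1 : θ s ≠ 1 := fun h1 => he1 (by
      rw [h1, Subgroup.coe_one] at hs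
      simpa using hs)
    rw [θmul, hc _ _ h1, ← hψu (θ s) h1 ⟨d, hd⟩ hs]

/-- The isomorphism with `PSL(2, F)`. -/
theorem equiv_psl (h : Hyp T) : ∃ (F : Type) (_ : Field F) (_ : Fintype F),
    Fintype.card F = Nat.card T ∧ Nonempty (G ≃* Matrix.ProjectiveSpecialLinearGroup (Fin 2) F) := by
  classical
  obtain ⟨u, hu, huH⟩ := exists_involution_out h
  set o := u • base T with ho
  have hne : base T ≠ o := fun he => huH (fix_base.mp he.symm)
  obtain ⟨P, hP⟩ := exists_fixed h hu
  have huu : u * u = 1 := by rw [← sq, ← hu, pow_orderOf_eq_one]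
  have huo : u • o = base T := swap_point hu ho.symm
  have hPb : P ≠ base T := by
    rintro rfl
    exact hne (hP.symm.trans ho.symm)
  have hPo : P ≠ o := by
    intro hc
    rw [hc, huo] at hP
    exact hne hP
  obtain ⟨e, ⟨he, heo⟩, -⟩ := T_regular h hne.symm hPb
  have he1 : e ≠ 1 := by
    rintro rfl
    rw [one_smul] at heo
    exact hPo heo.symm
  have hinvD := inverts_D2 h hu hne ho.symm
  have hDH : D2 (base T) o ≤ H T := fun d hd => fix_base.mp (mem_stabilizer_iff.mp hd.1)
  have hDab : ∀ a ∈ D2 (base T) o, ∀ b ∈ D2 (base T) o, a * b = b * a := by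
    intro a ha b hb
    have h4 : a⁻¹ * b⁻¹ = (a * b)⁻¹ := by
      rw [← hinvD a ha, ← hinvD b hb, ← hinvD _ (mul_mem ha hb)]
      group
    rw [← mul_inv_rev, inv_inj] at h4
    exact h4.symm
  have hDfree : ∀ d ∈ D2 (base T) o, d ∈ (T : Subgroup G) → d = 1 := fun d hd hdT =>
    T_free h hdT hne.symm (mem_stabilizer_iff.mp hd.2)
  obtain ⟨F, _, _, θ, hcard, hchar, θadd, θone, hψ, hmul⟩ :=
    exists_field_structure h (D2 (base T) o) hDH hDab (fib_eq h hne).2 hDfree e he he1
  refine ⟨F, inferInstance, inferInstance, hcard, ?_⟩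
  have θzero : (θ 0 : G) = 1 := by
    have := θadd 0 0
    rw [add_zero] at this
    exact congrArg Subtype.val (mul_eq_left.mp this.symm)
  -- coordinates
  let ι : OnePoint F → Pts T := fun x => x.elim (base T) (fun a => (θ a : G) • o)
  have ι_inf : ι OnePoint.infty = base T := rfl
  have ι_some : ∀ a : F, ι (a : OnePoint F) = (θ a : G) • o := fun a => rfl
  have hTo : ∀ t ∈ (T : Subgroup G), t • o ≠ base T := by
    intro t ht hc
    apply hne
    rw [← fix_base.mpr (T_le ((T : Subgroup G).inv_mem ht)), ← hc, inv_smul_smul]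
  have hι : Function.Bijective ι := by
    constructor
    · intro x y hxy
      cases x with
      | infty =>
        cases y with
        | infty => rfl
        | coe b => exact absurd hxy.symm (hTo _ (θ b).2)
      | coe a =>
        cases y with
        | infty => exact absurd hxy (hTo _ (θ a).2)
        | coe b =>
          have := (T_regular h hne.symm (hTo _ (θ b).2)).unique ⟨(θ a).2, hxy⟩ ⟨(θ b).2, rfl⟩
          exact congrArg _ (θ.injective (Subtype.ext this))
    · intro z
      by_cases hz : z = base T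
      · exact ⟨OnePoint.infty, hz.symm⟩
      · obtain ⟨t, ⟨ht, hto⟩, -⟩ := T_regular h hne.symm hz
        exact ⟨((θ.symm ⟨t, ht⟩ : F) : OnePoint F), by rw [ι_some, θ.apply_symm_apply]; exact hto⟩
  let toGL : Matrix.SpecialLinearGroup (Fin 2) F →* GL (Fin 2) F := Matrix.SpecialLinearGroup.toGL
  let Eq' : Equiv.Perm (OnePoint F) ≃* Equiv.Perm (Pts T) := (Equiv.ofBijective ι hι).permCongrHom
  let Φ : Matrix.SpecialLinearGroup (Fin 2) F →* Equiv.Perm (Pts T) :=
    Eq'.toMonoidHom.comp ((MulAction.toPermHom (GL (Fin 2) F) (OnePoint F)).comp toGL)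
  let Ψ : G →* Equiv.Perm (Pts T) := MulAction.toPermHom G (Pts T)
  have hΦ : ∀ M x, Φ M (ι x) = ι (toGL M • x) := by
    intro M x
    show (Equiv.ofBijective ι hι).permCongr (MulAction.toPerm (toGL M)) (ι x) = _
    rw [Equiv.permCongr_apply]
    show ι (toGL M • (Equiv.ofBijective ι hι).symm ((Equiv.ofBijective ι hι) x)) = _
    rw [Equiv.symm_apply_apply]
  have heq : ∀ (g : G) (M : Matrix.SpecialLinearGroup (Fin 2) F),
      (∀ x, g • ι x = ι (toGL M • x)) → Ψ g = Φ M := by
    intro g M hx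
    refine Equiv.ext fun z => ?_
    obtain ⟨x, rfl⟩ := hι.2 z
    rw [hΦ]
    exact hx x
  have h20 : (2 : F) = 0 := CharTwo.two_eq_zero
  have hco : ∀ (M : Matrix.SpecialLinearGroup (Fin 2) F) i j, (toGL M) i j = M.1 i j := fun _ _ _ => rfl
  -- translations
  have hT : ∀ a : F, (θ a : G) ∈ Φ.range.comap Ψ := by
    intro a
    obtain ⟨M, hMv⟩ : ∃ M : Matrix.SpecialLinearGroup (Fin 2) F, M.1 = !![1, a; 0, 1] :=
      ⟨⟨!![1, a; 0, 1], by simp [Matrix.det_fin_two]⟩, rfl⟩
    refine ⟨M, (heq _ M fun x => ?_).symm⟩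
    cases x with
    | infty =>
      rw [OnePoint.smul_infty_eq_self_iff.mpr (by simp [hco, hMv]), ι_inf, fix_base.mpr (T_le (θ a).2)]
    | coe b =>
      rw [OnePoint.smul_some_eq_ite]
      simp only [hco, hMv, Matrix.cons_val', Matrix.cons_val_zero,
        Matrix.cons_val_one, Matrix.of_apply, Matrix.cons_val_fin_one, zero_mul, zero_add, one_ne_zero, if_false,
        one_mul, div_one]
      rw [ι_some, ι_some, ← mul_smul, ← Subgroup.coe_mul, ← θadd, add_comm]
  -- dilations
  have hD : ∀ d ∈ D2 (base T) o, d ∈ Φ.range.comap Ψ := by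
    intro d hd
    let s : F := θ.symm ⟨d * e * d⁻¹, conj_T (hDH hd) he⟩
    have hs : d * e * d⁻¹ = θ s := by simp [s]
    have hs0 : s ≠ 0 := by
      intro h0
      rw [h0, θzero] at hs
      exact he1 (by simpa using hs)
    obtain ⟨r, hr⟩ := FiniteField.isSquare_of_char_two (ringChar.eq F 2) s
    have hr0 : r ≠ 0 := by rintro rfl; exact hs0 (by simp [hr])
    obtain ⟨M, hMv⟩ : ∃ M : Matrix.SpecialLinearGroup (Fin 2) F, M.1 = !![r, 0; 0, r⁻¹] :=
      ⟨⟨!![r, 0; 0, r⁻¹], by simp [Matrix.det_fin_two, hr0]⟩, rfl⟩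
    refine ⟨M, (heq _ M fun x => ?_).symm⟩
    cases x with
    | infty =>
      rw [OnePoint.smul_infty_eq_self_iff.mpr (by simp [hco, hMv]), ι_inf, mem_stabilizer_iff.mp hd.1]
    | coe b =>
      rw [OnePoint.smul_some_eq_ite]
      simp only [hco, hMv, Matrix.cons_val', Matrix.cons_val_zero,
        Matrix.cons_val_one, Matrix.of_apply, Matrix.cons_val_fin_one, zero_mul, zero_add, inv_ne_zero hr0,
        if_false, add_zero, div_inv_eq_mul]
      have hb : r * b * r = s * b := by rw [hr]; ring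
      rw [hb, ι_some, ι_some, ← hmul d hd s hs b, mul_smul, mul_smul,
        inv_smul_eq_iff.mpr (mem_stabilizer_iff.mp hd.2).symm]
  -- the involution
  have huS : u ∈ Φ.range.comap Ψ := by
    obtain ⟨M, hMv⟩ : ∃ M : Matrix.SpecialLinearGroup (Fin 2) F, M.1 = !![0, 1; 1, 0] :=
      ⟨⟨!![0, 1; 1, 0], by simp [Matrix.det_fin_two, CharTwo.neg_eq]⟩, rfl⟩
    refine ⟨M, (heq _ M fun x => ?_).symm⟩
    cases x with
    | infty =>
      rw [OnePoint.smul_infty_eq_ite]
      simp only [hco, hMv, Matrix.cons_val', Matrix.cons_val_zero,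
        Matrix.cons_val_one, Matrix.of_apply, Matrix.cons_val_fin_one, one_ne_zero, if_false, zero_div]
      rw [ι_inf, ι_some, θzero, one_smul, ← ho]
    | coe b =>
      rw [OnePoint.smul_some_eq_ite]
      simp only [hco, hMv, Matrix.cons_val', Matrix.cons_val_zero,
        Matrix.cons_val_one, Matrix.of_apply, Matrix.cons_val_fin_one, one_mul, zero_mul, zero_add, add_zero]
      by_cases hb : b = 0
      · rw [if_pos hb, hb, ι_inf, ι_some, θzero, one_smul, huo]
      · rw [if_neg hb, one_div]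
        obtain ⟨d, hd, hde⟩ := hψ b hb
        have h1 : (θ b : G) • o = d • P := by
          rw [← hde, mul_smul, mul_smul, inv_smul_eq_iff.mpr (mem_stabilizer_iff.mp hd.2).symm, heo]
        have h2 : u • (θ b : G) • o = d⁻¹ • P := by
          rw [h1, ← mul_smul, show u * d = d⁻¹ * u from (mul_inv_eq_iff_eq_mul.mp (hinvD d hd)), mul_smul, hP]
        let y : F := θ.symm ⟨d⁻¹ * e * d⁻¹⁻¹, conj_T (hDH (inv_mem hd)) he⟩
        have hy : d⁻¹ * e * d⁻¹⁻¹ = θ y := by simp [y]
        have hby : b * y = 1 := by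
          refine θ.injective (Subtype.ext ?_)
          rw [θone, ← hmul d hd b hde y, ← hy]
          group
        have hy' : y = b⁻¹ := eq_inv_of_mul_eq_one_right hby
        rw [ι_some, ι_some, h2, ← hy', ← hy, mul_smul, mul_smul, inv_inv, mem_stabilizer_iff.mp hd.2, heo]
  -- generation
  have hTmem : ∀ t ∈ (T : Subgroup G), t ∈ Φ.range.comap Ψ := fun t ht => by
    have := hT (θ.symm ⟨t, ht⟩)
    rwa [θ.apply_symm_apply] at this
  have hfix : ∀ g : G, g • base T = base T → g ∈ Φ.range.comap Ψ := by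
    intro g hg
    have hgo : g • o ≠ base T := fun hc => hne (MulAction.injective g (hg.trans hc.symm))
    obtain ⟨t, ⟨ht, hto⟩, -⟩ := T_regular h hne.symm hgo
    have hm : t⁻¹ * g ∈ D2 (base T) o := by
      refine Subgroup.mem_inf.mpr ⟨?_, ?_⟩
      · rw [mem_stabilizer_iff, mul_smul, hg, fix_base.mpr (T_le ((T : Subgroup G).inv_mem ht))]
      · rw [mem_stabilizer_iff, mul_smul, ← hto, inv_smul_smul]
    have := mul_mem (hTmem t ht) (hD _ hm)
    rwa [mul_inv_cancel_left] at this
  have hall : ∀ g : G, g ∈ Φ.range.comap Ψ := by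
    intro g
    by_cases hg : g • base T = base T
    · exact hfix g hg
    · obtain ⟨t, ⟨ht, hto⟩, -⟩ := T_regular h hne.symm hg
      have hm := hfix (u * (t⁻¹ * g)) (by rw [mul_smul, mul_smul, ← hto, inv_smul_smul, huo])
      have := mul_mem (hTmem t ht) (mul_mem huS hm)
      rwa [← mul_assoc u, huu, one_mul, mul_inv_cancel_left] at this
  -- matrices fixing three points
  have hker : ∀ M : Matrix.SpecialLinearGroup (Fin 2) F, toGL M • (OnePoint.infty : OnePoint F) = OnePoint.infty →
      toGL M • ((0 : F) : OnePoint F) = (0 : F) → toGL M • ((1 : F) : OnePoint F) = (1 : F) → M = 1 := by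
    intro M h0 h1 h2
    have hc : M.1 1 0 = 0 := OnePoint.smul_infty_eq_self_iff.mp h0
    have hdet : M.1 0 0 * M.1 1 1 = 1 := by
      have := M.2
      rw [Matrix.det_fin_two, hc, mul_zero, sub_zero] at this
      exact this
    have hd : M.1 1 1 ≠ 0 := right_ne_zero_of_mul (hdet ▸ one_ne_zero)
    rw [OnePoint.smul_some_eq_ite] at h1 h2
    simp only [hco, hc, mul_zero, zero_add, zero_mul, if_neg hd, if_false,
      OnePoint.coe_eq_coe, div_eq_zero_iff, hd, or_false] at h1
    simp only [hco, hc, zero_mul, zero_add, if_neg hd, if_false,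
      OnePoint.coe_eq_coe, h1, add_zero, mul_one, div_eq_one_iff_eq hd] at h2
    rw [← h2] at hdet
    have ha : M.1 0 0 = 1 := by
      have h3 : (M.1 0 0 + 1) ^ 2 = 0 := by linear_combination hdet + (M.1 0 0 + 1) * h20
      have h4 := pow_eq_zero_iff two_ne_zero |>.mp h3
      linear_combination h4 - h20
    refine Subtype.ext (Matrix.ext fun i j => ?_)
    fin_cases i <;> fin_cases j <;> simp [ha, h1, hc, ← h2]
  have hΦinj : Function.Injective Φ := by
    rw [injective_iff_map_eq_one]
    intro M hM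
    have hM' : ∀ x, toGL M • x = x := fun x => hι.1 (by rw [← hΦ, hM]; rfl)
    exact hker M (hM' _) (hM' _) (hM' _)
  have hΨinj : Function.Injective Ψ := by
    rw [injective_iff_map_eq_one]
    intro g hg
    have hg' : ∀ z : Pts T, g • z = z := fun z => congrArg (fun σ : Equiv.Perm (Pts T) => σ z) hg
    exact eq_one_of_three h hne (hPb.symm) (hPo.symm) (hg' _) (hg' _) (hg' _)
  have hrange : Φ.range = Ψ.range := by
    apply le_antisymm
    · rintro _ ⟨M, rfl⟩
      obtain ⟨g, g0, g1, g2⟩ := three_points h hne hPb.symm hPo.symm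
        (hι.1.ne (show toGL M • (OnePoint.infty : OnePoint F) ≠ toGL M • ((0 : F) : OnePoint F) from
          fun hc => OnePoint.infty_ne_coe _ (MulAction.injective _ hc)))
        (hι.1.ne (show toGL M • (OnePoint.infty : OnePoint F) ≠ toGL M • ((1 : F) : OnePoint F) from
          fun hc => OnePoint.infty_ne_coe _ (MulAction.injective _ hc)))
        (hι.1.ne (show toGL M • ((0 : F) : OnePoint F) ≠ toGL M • ((1 : F) : OnePoint F) from
          fun hc => zero_ne_one (OnePoint.coe_injective (MulAction.injective _ hc))))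
      obtain ⟨M', hM'⟩ := hall g
      have h' : ∀ x, g • ι x = ι (toGL M' • x) := fun x => by rw [← hΦ, hM']; rfl
      have e0 := h' OnePoint.infty
      have e1 := h' ((0 : F) : OnePoint F)
      have e2 := h' ((1 : F) : OnePoint F)
      rw [ι_inf, g0] at e0
      rw [ι_some, θzero, one_smul, g1] at e1
      rw [ι_some, θone, heo, g2] at e2
      have hone : M⁻¹ * M' = 1 := hker _
        (by rw [map_mul, map_inv, mul_smul, ← hι.1 e0, inv_smul_smul])
        (by rw [map_mul, map_inv, mul_smul, ← hι.1 e1, inv_smul_smul])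
        (by rw [map_mul, map_inv, mul_smul, ← hι.1 e2, inv_smul_smul])
      exact ⟨g, by rw [← hM', inv_mul_eq_one.mp hone]⟩
    · rintro _ ⟨g, rfl⟩
      exact hall g
  have hcenter : Subgroup.center (Matrix.SpecialLinearGroup (Fin 2) F) = ⊥ := by
    rw [eq_bot_iff]
    intro M hM
    obtain ⟨r, hr, hrM⟩ := Matrix.SpecialLinearGroup.mem_center_iff.mp hM
    have hr1 : r = 1 := by
      rw [Fintype.card_fin] at hr
      have h3 : (r + 1) ^ 2 = 0 := by linear_combination hr + (r + 1) * h20
      have h4 := pow_eq_zero_iff two_ne_zero |>.mp h3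
      linear_combination h4 - h20
    rw [Subgroup.mem_bot]
    exact Subtype.ext (by rw [← hrM, hr1, map_one]; rfl)
  let e₁ : G ≃* Matrix.SpecialLinearGroup (Fin 2) F :=
    (MonoidHom.ofInjective hΨinj).trans ((MulEquiv.subgroupCongr hrange.symm).trans (MonoidHom.ofInjective hΦinj).symm)
  exact ⟨e₁.trans ((QuotientGroup.quotientBot).symm.trans (QuotientGroup.quotientMulEquivOfEq hcenter.symm))⟩

end Cfsg.Agent.TwoFusion.ElemCent
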