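import Cfsg.Agent.EqLemmas

/-!
Finite groups in which a Sylow 2-subgroup `T` is neither cyclic nor normal and every involution has an
elementary abelian centralizer. Elementary counting shows that `G` is a sharply triply transitive group on
the cosets of `N(T)`.

Main results: `centralizer_eq`, `mem_of_orderOf_two`, `strongly_embedded`, `card_normalizer`,
`card_two_point`, `inverts_two_point`, `fixed_two_points`, `card_points`, `three_points`.
-/

set_option autoImplicit false

open MulAction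

namespace Cfsg.Agent.TwoFusion.ElemCent

variable {G : Type*} [Group G]

/-- The hypotheses: `T` is neither cyclic nor normal, involution centralizers are elementary abelian. -/
structure Hyp (T : Sylow 2 G) : Prop where
  notCyclic : ¬ IsCyclic (T : Subgroup G)
  notNormal : ¬ (T : Subgroup G).Normal
  cent : ∀ t : G, orderOf t = 2 → IsMulCommutative (Subgroup.centralizer ({t} : Set G)) ∧
    ∀ c ∈ Subgroup.centralizer ({t} : Set G), c ^ 2 = 1

variable {T : Sylow 2 G}

theorem pos_orderOf_two {x : G} (hx : x ^ 2 = 1) (h1 : x ≠ 1) : orderOf x = 2 :=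
  haveI : Fact (Nat.Prime 2) := ⟨Nat.prime_two⟩
  orderOf_eq_prime hx h1

variable [Finite G]

theorem comm_cent (h : Hyp T) {t a b : G} (ht : orderOf t = 2) (ha : a * t = t * a) (hb : b * t = t * b) :
    a * b = b * a :=
  congrArg Subtype.val ((h.cent t ht).1.is_comm.comm
    ⟨a, Subgroup.mem_centralizer_singleton_iff.mpr ha⟩ ⟨b, Subgroup.mem_centralizer_singleton_iff.mpr hb⟩)

theorem sq_cent (h : Hyp T) {t a : G} (ht : orderOf t = 2) (ha : a * t = t * a) : a ^ 2 = 1 :=
  (h.cent t ht).2 a (Subgroup.mem_centralizer_singleton_iff.mpr ha)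

theorem ne_bot (h : Hyp T) : (T : Subgroup G) ≠ ⊥ := by
  intro hT
  apply h.notCyclic
  rw [hT]
  infer_instance

theorem exists_central (h : Hyp T) :
    ∃ z : G, orderOf z = 2 ∧ z ∈ (T : Subgroup G) ∧ ∀ a ∈ (T : Subgroup G), a * z = z * a := by
  haveI : Fact (Nat.Prime 2) := ⟨Nat.prime_two⟩
  haveI : Nontrivial (T : Subgroup G) := (Subgroup.nontrivial_iff_ne_bot _).mpr (ne_bot h)
  haveI := T.isPGroup'.center_nontrivial
  obtain ⟨k, hk⟩ := (T.isPGroup'.to_subgroup (Subgroup.center (T : Subgroup G))).exists_card_eq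
  have hk0 : k ≠ 0 := by
    intro h0
    rw [h0, pow_zero] at hk
    exact absurd hk (ne_of_gt Finite.one_lt_card)
  obtain ⟨z, hz⟩ := exists_prime_orderOf_dvd_card' (G := Subgroup.center (T : Subgroup G)) 2
    (hk ▸ dvd_pow_self 2 hk0)
  refine ⟨((z : (T : Subgroup G)) : G), ?_, (z : (T : Subgroup G)).2, ?_⟩
  · rw [Subgroup.orderOf_coe, Subgroup.orderOf_coe, hz]
  · intro a ha
    exact congrArg Subtype.val (Subgroup.mem_center_iff.mp z.2 ⟨a, ha⟩)

theorem comm_T (h : Hyp T) {a b : G} (ha : a ∈ (T : Subgroup G)) (hb : b ∈ (T : Subgroup G)) :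
    a * b = b * a := by
  obtain ⟨z, hz, -, hc⟩ := exists_central h
  exact comm_cent h hz (hc a ha) (hc b hb)

theorem sq_T (h : Hyp T) {a : G} (ha : a ∈ (T : Subgroup G)) : a ^ 2 = 1 := by
  obtain ⟨z, hz, -, hc⟩ := exists_central h
  exact sq_cent h hz (hc a ha)

theorem orderOf_T (h : Hyp T) {a : G} (ha : a ∈ (T : Subgroup G)) (ha1 : a ≠ 1) : orderOf a = 2 :=
  pos_orderOf_two (sq_T h ha) ha1

theorem centralizer_eq (h : Hyp T) {t : G} (ht : t ∈ (T : Subgroup G)) (ht1 : t ≠ 1) :
    Subgroup.centralizer ({t} : Set G) = (T : Subgroup G) := by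
  refine T.is_maximal' ?_ ?_
  · intro c
    refine ⟨1, Subtype.ext ?_⟩
    have hc := sq_cent h (orderOf_T h ht ht1) (Subgroup.mem_centralizer_singleton_iff.mp c.2)
    simpa using hc
  · intro a ha
    exact Subgroup.mem_centralizer_singleton_iff.mpr (comm_T h ha ht)

/-- The normalizer of `T`. -/
def H (T : Sylow 2 G) : Subgroup G := Subgroup.normalizer ((T : Subgroup G) : Set G)

omit [Finite G] in
theorem T_le : (T : Subgroup G) ≤ H T := Subgroup.le_normalizer

omit [Finite G] in
theorem conj_T {g t : G} (hg : g ∈ H T) (ht : t ∈ (T : Subgroup G)) : g * t * g⁻¹ ∈ (T : Subgroup G) :=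
  (Subgroup.mem_normalizer_iff.mp hg t).mp ht

omit [Finite G] in
theorem mem_of_two_element {x : G} {k : ℕ} (hx : x ^ 2 ^ k = 1) (hxH : x ∈ H T) :
    x ∈ (T : Subgroup G) := by
  have hp : IsPGroup 2 (Subgroup.zpowers x) := by
    rintro ⟨y, hy⟩
    obtain ⟨j, rfl⟩ := Subgroup.mem_zpowers_iff.mp hy
    exact ⟨k, Subtype.ext (by
      simp only [SubmonoidClass.coe_pow, OneMemClass.coe_one]
      rw [← zpow_natCast, ← zpow_mul, mul_comm, zpow_mul, zpow_natCast, hx, one_zpow])⟩
  have := hp.inf_normalizer_sylow T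
  have hx2 : x ∈ Subgroup.zpowers x ⊓ H T := ⟨Subgroup.mem_zpowers x, hxH⟩
  exact (this.le hx2).2

omit [Finite G] in
theorem mem_of_orderOf_two {x : G} (hx : orderOf x = 2) (hxH : x ∈ H T) : x ∈ (T : Subgroup G) :=
  mem_of_two_element (k := 1) (by rw [pow_one, ← hx, pow_orderOf_eq_one]) hxH

theorem mem_H_of_conj_mem (h : Hyp T) {g t : G} (ht : t ∈ (T : Subgroup G)) (ht1 : t ≠ 1)
    (hg : g * t * g⁻¹ ∈ (T : Subgroup G)) : g ∈ H T := by
  have hne : g * t * g⁻¹ ≠ 1 := by simpa using ht1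
  have hc := centralizer_eq h hg hne
  have hc' := centralizer_eq h ht ht1
  rw [H, Subgroup.mem_normalizer_iff]
  intro n
  constructor
  · intro hn
    rw [← hc, Subgroup.mem_centralizer_singleton_iff]
    rw [← hc', Subgroup.mem_centralizer_singleton_iff] at hn
    calc g * n * g⁻¹ * (g * t * g⁻¹) = g * (n * t) * g⁻¹ := by group
      _ = g * (t * n) * g⁻¹ := by rw [hn]
      _ = g * t * g⁻¹ * (g * n * g⁻¹) := by group
  · intro hn
    rw [← hc, Subgroup.mem_centralizer_singleton_iff] at hn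
    rw [← hc', Subgroup.mem_centralizer_singleton_iff]
    calc n * t = g⁻¹ * (g * n * g⁻¹ * (g * t * g⁻¹)) * g := by group
      _ = g⁻¹ * (g * t * g⁻¹ * (g * n * g⁻¹)) * g := by rw [hn]
      _ = t * n := by group

theorem H_ne_top (h : Hyp T) : H T ≠ ⊤ := fun hH =>
  h.notNormal (Subgroup.normalizer_eq_top_iff.mp hH)

theorem inter_odd (h : Hyp T) {g : G} (hg : g ∉ H T) :
    Odd (Nat.card ↥(H T ⊓ (H T).map (MulAut.conj g).toMonoidHom)) := by
  haveI : Fact (Nat.Prime 2) := ⟨Nat.prime_two⟩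
  rw [← Nat.not_even_iff_odd, even_iff_two_dvd]
  intro h2
  obtain ⟨x, hx⟩ := exists_prime_orderOf_dvd_card' 2 h2
  have hx' : orderOf (x : G) = 2 := by rw [Subgroup.orderOf_coe, hx]
  have hxT := mem_of_orderOf_two hx' x.2.1
  obtain ⟨y, hy, hyx⟩ := x.2.2
  simp only [MulEquiv.coe_toMonoidHom, MulAut.conj_apply] at hyx
  have hy2 : orderOf y = 2 := by
    rw [← hx', ← hyx, ← MulAut.conj_apply, MulEquiv.orderOf_eq]
  have hy1 : y ≠ 1 := by
    intro h1
    rw [h1, orderOf_one] at hy2
    omega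
  exact hg (mem_H_of_conj_mem h (mem_of_orderOf_two hy2 hy) hy1 (hyx ▸ hxT))

theorem strongly_embedded (h : Hyp T) : Cfsg.IsStronglyEmbedded (H T) := by
  refine ⟨H_ne_top h, ?_, fun g hg => inter_odd h hg⟩
  obtain ⟨z, hz, hzT, -⟩ := exists_central h
  rw [even_iff_two_dvd]
  have : orderOf (⟨z, T_le hzT⟩ : H T) = 2 := by rw [← Subgroup.orderOf_coe]; exact hz
  exact this ▸ orderOf_dvd_natCard _

/-! ### The action on the cosets of `H` -/

/-- The coset space. -/
abbrev Pts (T : Sylow 2 G) := G ⧸ H T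

/-- The base point. -/
abbrev base (T : Sylow 2 G) : Pts T := QuotientGroup.mk 1

omit [Finite G] in
theorem smul_base (g : G) : g • base T = QuotientGroup.mk g := by
  simp [base, MulAction.Quotient.smul_mk]

omit [Finite G] in
theorem fix_base {g : G} : g • base T = base T ↔ g ∈ H T := by
  rw [smul_base, eq_comm, QuotientGroup.eq, inv_one, one_mul]

omit [Finite G] in
theorem exists_point (x : Pts T) : ∃ g : G, g • base T = x := by
  induction x using QuotientGroup.induction_on with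
  | H g => exact ⟨g, smul_base g⟩

omit [Finite G] in
theorem fix_point {g c : G} : g • (c • base T) = c • base T ↔ c⁻¹ * g * c ∈ H T := by
  rw [← mul_smul, ← fix_base, mul_smul (c⁻¹ * g) c, mul_smul, mul_smul, inv_smul_eq_iff]

/-- An involution fixes exactly one point. -/
theorem fixed_unique (h : Hyp T) {v : G} (hv : orderOf v = 2) {x y : Pts T} (hx : v • x = x) (hy : v • y = y) :
    x = y := by
  obtain ⟨a, rfl⟩ := exists_point x
  obtain ⟨b, rfl⟩ := exists_point y
  rw [fix_point] at hx hy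
  have hord : ∀ c : G, orderOf (c⁻¹ * v * c) = 2 := fun c => by
    have := MulEquiv.orderOf_eq (MulAut.conj c⁻¹) v
    rw [MulAut.conj_apply, inv_inv] at this
    rw [this, hv]
  have hne : a⁻¹ * v * a ≠ 1 := fun h1 => by
    have := hord a
    rw [h1, orderOf_one] at this
    omega
  have h1 := mem_H_of_conj_mem h (g := b⁻¹ * a) (mem_of_orderOf_two (hord a) hx) hne (by
    have : b⁻¹ * a * (a⁻¹ * v * a) * (b⁻¹ * a)⁻¹ = b⁻¹ * v * b := by group
    rw [this]
    exact mem_of_orderOf_two (hord b) hy)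
  rw [smul_base, smul_base, eq_comm, QuotientGroup.eq]
  exact h1

theorem exists_not_mem (h : Hyp T) : ∃ g : G, g ∉ H T := by
  by_contra! hall
  exact H_ne_top h ((Subgroup.eq_top_iff' _).mpr hall)

theorem exists_involution_out (h : Hyp T) : ∃ v : G, orderOf v = 2 ∧ v ∉ H T := by
  obtain ⟨g, hg⟩ := exists_not_mem h
  obtain ⟨z, hz, hzT, -⟩ := exists_central h
  refine ⟨g * z * g⁻¹, ?_, fun hmem => hg (mem_H_of_conj_mem h hzT ?_ ?_)⟩
  · rw [← MulAut.conj_apply, MulEquiv.orderOf_eq, hz]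
  · intro h1
    rw [h1, orderOf_one] at hz
    omega
  · exact mem_of_orderOf_two (by rw [← MulAut.conj_apply, MulEquiv.orderOf_eq, hz]) hmem

omit [Finite G] in
theorem involution_inv {s : G} (hs : orderOf s = 2) : s⁻¹ = s := by
  rw [inv_eq_iff_mul_eq_one, ← sq, ← hs, pow_orderOf_eq_one]

/-- An involution of `T` is conjugate to any involution outside `H`. -/
theorem conj_out (h : Hyp T) {s v : G} (hsT : s ∈ (T : Subgroup G)) (hs : orderOf s = 2)
    (hv : orderOf v = 2) (hvH : v ∉ H T) : IsConj s v := by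
  have hs1 : s ≠ 1 := fun h1 => by rw [h1, orderOf_one] at hs; omega
  have hsi := involution_inv hs
  have hvi := involution_inv hv
  have hinv : ∀ k : ℕ, s * (s * v) ^ k * s⁻¹ = ((s * v) ^ k)⁻¹ := by
    intro k
    rw [← conj_pow, ← inv_pow]
    congr 1
    rw [mul_inv_rev, hsi, hvi]
    simp [← mul_assoc, show s * s = 1 by simpa [hsi] using mul_inv_cancel s]
  have hinv' : ∀ k : ℕ, v * (s * v) ^ k * v⁻¹ = ((s * v) ^ k)⁻¹ := by
    intro k
    rw [← conj_pow, ← inv_pow]
    congr 1
    rw [mul_inv_rev, hsi, hvi]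
    simp [mul_assoc, show v * v = 1 by simpa [hvi] using mul_inv_cancel v]
  rcases Nat.even_or_odd' (orderOf (s * v)) with ⟨k, hk | hk⟩
  · exfalso
    have hk0 : 0 < k := by
      have := orderOf_pos (s * v)
      omega
    set z := (s * v) ^ k with hz
    have hz2 : z ^ 2 = 1 := by rw [hz, ← pow_mul, mul_comm, ← hk, pow_orderOf_eq_one]
    have hz1 : z ≠ 1 := pow_ne_one_of_lt_orderOf hk0.ne' (by omega)
    have hzi : z⁻¹ = z := by rw [inv_eq_iff_mul_eq_one, ← sq, hz2]
    have hzs : z * s = s * z := by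
      have := hinv k
      rw [← hz, hzi, mul_inv_eq_iff_eq_mul] at this
      exact this.symm
    have hzv : z * v = v * z := by
      have := hinv' k
      rw [← hz, hzi, mul_inv_eq_iff_eq_mul] at this
      exact this.symm
    have hzT : z ∈ (T : Subgroup G) := by
      rw [← centralizer_eq h hsT hs1]
      exact Subgroup.mem_centralizer_singleton_iff.mpr hzs
    apply hvH
    apply T_le
    rw [← centralizer_eq h hzT hz1]
    exact Subgroup.mem_centralizer_singleton_iff.mpr hzv.symm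
  · refine isConj_iff.mpr ⟨(s * v) ^ k, ?_⟩
    have hpow : (s * v) ^ (k + 1) * (s * v) ^ k = 1 := by
      rw [← pow_add, show k + 1 + k = 2 * k + 1 by ring, ← hk, pow_orderOf_eq_one]
    have e1 : s * ((s * v) ^ k)⁻¹ = (s * v) ^ k * s := by
      calc s * ((s * v) ^ k)⁻¹ = (s * (s * v) ^ k * s⁻¹)⁻¹ * s := by group
        _ = (s * v) ^ k * s := by rw [hinv k, inv_inv]
    rw [mul_assoc, e1, ← mul_assoc, ← pow_add]
    calc (s * v) ^ (k + k) * s = (s * v) ^ (k + k) * (s * v) * v := by simp [mul_assoc, show v * v = 1 by simpa [hvi] using mul_inv_cancel v]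
      _ = v := by
          rw [← pow_succ, show k + k + 1 = k + 1 + k by ring, pow_add, hpow, one_mul]

theorem isConj_involutions (h : Hyp T) {a b : G} (ha : orderOf a = 2) (hb : orderOf b = 2) : IsConj a b := by
  obtain ⟨z, hz, hzT, -⟩ := exists_central h
  obtain ⟨v, hv, hvH⟩ := exists_involution_out h
  suffices ∀ c : G, orderOf c = 2 → IsConj z c from (this a ha).symm.trans (this b hb)
  intro c hc
  by_cases hcH : c ∈ H T
  · exact (conj_out h hzT hz hv hvH).trans (conj_out h (mem_of_orderOf_two hc hcH) hc hv hvH).symm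
  · exact conj_out h hzT hz hc hcH

theorem exists_fixed (h : Hyp T) {v : G} (hv : orderOf v = 2) : ∃ x : Pts T, v • x = x := by
  obtain ⟨z, hz, hzT, -⟩ := exists_central h
  obtain ⟨c, hc⟩ := isConj_iff.mp (isConj_involutions h hz hv)
  refine ⟨c • base T, fix_point.mpr ?_⟩
  have : c⁻¹ * v * c = z := by rw [← hc]; group
  rw [this]
  exact T_le hzT

/-- The number of involutions in `T`. -/
noncomputable def m (T : Sylow 2 G) : ℕ := Nat.card T - 1

/-- The involutions lying in a given subgroup. -/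
abbrev Inv (K : Subgroup G) := {t : G // t ∈ K ∧ t ≠ 1}

theorem card_inv (T : Sylow 2 G) : Nat.card (Inv (T : Subgroup G)) = m T := by
  classical
  let e : Inv (T : Subgroup G) ≃ {t : (T : Subgroup G) // t ≠ 1} :=
    { toFun := fun t => ⟨⟨t.1, t.2.1⟩, fun h1 => t.2.2 (congrArg Subtype.val h1)⟩
      invFun := fun t => ⟨t.1.1, t.1.2, fun h1 => t.2 (Subtype.ext h1)⟩
      left_inv := fun _ => rfl
      right_inv := fun _ => rfl }
  rw [Nat.card_congr e, m]
  haveI := Fintype.ofFinite (T : Subgroup G)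
  rw [Nat.card_eq_fintype_card, Nat.card_eq_fintype_card, Fintype.card_subtype_compl,
    Fintype.card_subtype_eq]

theorem card_T_eq (T : Sylow 2 G) : Nat.card T = m T + 1 := by
  have : 0 < Nat.card T := Nat.card_pos
  unfold m; omega

theorem three_le_m (h : Hyp T) : 3 ≤ m T := by
  haveI : Fact (Nat.Prime 2) := ⟨Nat.prime_two⟩
  obtain ⟨k, hk⟩ := T.isPGroup'.exists_card_eq
  have h2 : 2 ≤ k := by
    by_contra! hlt
    interval_cases k
    · exact ne_bot h (Subgroup.card_eq_one.mp (by simpa using hk))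
    · exact h.notCyclic (isCyclic_of_prime_card (p := 2) (by simpa using hk))
  have : 2 ^ 2 ≤ 2 ^ k := Nat.pow_le_pow_right (by norm_num) h2
  have := card_T_eq T
  rw [hk] at this
  omega

theorem card_H (h : Hyp T) : Nat.card (H T) = Nat.card T * m T := by
  let act : MulAction (H T) (Inv (T : Subgroup G)) :=
    { smul := fun g t => ⟨g.1 * t.1 * g.1⁻¹, conj_T g.2 t.2.1, by simpa using t.2.2⟩
      one_smul := fun t => Subtype.ext (show (1 : G) * t.1 * (1 : G)⁻¹ = t.1 by simp)
      mul_smul := fun a b t => Subtype.ext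
        (show (a.1 * b.1) * t.1 * (a.1 * b.1)⁻¹ = a.1 * (b.1 * t.1 * b.1⁻¹) * a.1⁻¹ by group) }
  obtain ⟨z, hz, hzT, -⟩ := exists_central h
  have hz1 : z ≠ 1 := fun h1 => by rw [h1, orderOf_one] at hz; omega
  let z' : Inv (T : Subgroup G) := ⟨z, hzT, hz1⟩
  have horb : orbit (H T) z' = Set.univ := by
    refine Set.eq_univ_of_forall fun t => ?_
    obtain ⟨c, hc⟩ := isConj_iff.mp (isConj_involutions h hz (orderOf_T h t.2.1 t.2.2))
    exact ⟨⟨c, mem_H_of_conj_mem h hzT hz1 (hc ▸ t.2.1)⟩, Subtype.ext hc⟩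
  have hstab : stabilizer (H T) z' = (T : Subgroup G).subgroupOf (H T) := by
    ext g
    rw [mem_stabilizer_iff, Subgroup.mem_subgroupOf, ← SetLike.ext_iff.mp (centralizer_eq h hzT hz1) (g : G),
      Subgroup.mem_centralizer_singleton_iff]
    constructor
    · intro hg
      have : g.1 * z * g.1⁻¹ = z := congrArg Subtype.val hg
      rwa [mul_inv_eq_iff_eq_mul] at this
    · intro hg
      exact Subtype.ext (show g.1 * z * g.1⁻¹ = z by rw [hg, mul_inv_cancel_right])
  have h1 := (stabilizer (H T) z').index_mul_card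
  rw [index_stabilizer, horb, Set.ncard_univ, card_inv, hstab,
    Nat.card_congr (Subgroup.subgroupOfEquivOfLe T_le).toEquiv] at h1
  rw [← h1, mul_comm]

/-- Number of points. -/
noncomputable def n (T : Sylow 2 G) : ℕ := Nat.card (Pts T)

theorem card_G (T : Sylow 2 G) : Nat.card G = n T * Nat.card (H T) :=
  (H T).card_eq_card_quotient_mul_card_subgroup

theorem card_involutions (h : Hyp T) : Nat.card {v : G // orderOf v = 2} = n T * m T := by
  obtain ⟨z, hz, hzT, -⟩ := exists_central h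
  have hz1 : z ≠ 1 := fun h1 => by rw [h1, orderOf_one] at hz; omega
  let act : MulAction G {v : G // orderOf v = 2} :=
    { smul := fun g v => ⟨g * v.1 * g⁻¹, by rw [← MulAut.conj_apply, MulEquiv.orderOf_eq]; exact v.2⟩
      one_smul := fun t => Subtype.ext (show (1 : G) * t.1 * (1 : G)⁻¹ = t.1 by simp)
      mul_smul := fun a b t => Subtype.ext
        (show (a * b) * t.1 * (a * b)⁻¹ = a * (b * t.1 * b⁻¹) * a⁻¹ by group) }
  have horb : orbit G (⟨z, hz⟩ : {v : G // orderOf v = 2}) = Set.univ := by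
    refine Set.eq_univ_of_forall fun t => ?_
    obtain ⟨c, hc⟩ := isConj_iff.mp (isConj_involutions h hz t.2)
    exact ⟨c, Subtype.ext hc⟩
  have hstab : stabilizer G (⟨z, hz⟩ : {v : G // orderOf v = 2}) = (T : Subgroup G) := by
    ext g
    rw [mem_stabilizer_iff, ← SetLike.ext_iff.mp (centralizer_eq h hzT hz1) g, Subgroup.mem_centralizer_singleton_iff]
    constructor
    · intro hg
      have : g * z * g⁻¹ = z := congrArg Subtype.val hg
      rwa [mul_inv_eq_iff_eq_mul] at this
    · intro hg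
      exact Subtype.ext (show g * z * g⁻¹ = z by rw [hg, mul_inv_cancel_right])
  have h1 := (stabilizer G (⟨z, hz⟩ : {v : G // orderOf v = 2})).index_mul_card
  rw [index_stabilizer, horb, Set.ncard_univ, hstab, card_G T, card_H h] at h1
  have : 0 < Nat.card T := Nat.card_pos
  exact Nat.eq_of_mul_eq_mul_right this (by rw [h1]; ring)

/-- The stabilizer of two points. -/
abbrev D2 (x y : Pts T) : Subgroup G := stabilizer G x ⊓ stabilizer G y

theorem odd_D2 (h : Hyp T) {x y : Pts T} (hxy : x ≠ y) : Odd (Nat.card (D2 x y)) := by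
  haveI : Fact (Nat.Prime 2) := ⟨Nat.prime_two⟩
  rw [← Nat.not_even_iff_odd, even_iff_two_dvd]
  intro h2
  obtain ⟨d, hd⟩ := exists_prime_orderOf_dvd_card' 2 h2
  exact hxy (fixed_unique h (by rw [Subgroup.orderOf_coe, hd]) (mem_stabilizer_iff.mp d.2.1)
    (mem_stabilizer_iff.mp d.2.2))

theorem card_stab (x : Pts T) : Nat.card (stabilizer G x) = Nat.card (H T) := by
  obtain ⟨c, rfl⟩ := exists_point x
  rw [stabilizer_smul_eq_stabilizer_map_conj, Subgroup.card_map_of_injective (MulEquiv.injective _)]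
  congr 2
  ext g
  exact mem_stabilizer_iff.trans fix_base

theorem D2_dvd (h : Hyp T) {x y : Pts T} (hxy : x ≠ y) : Nat.card (D2 x y) ∣ m T := by
  haveI : Fact (Nat.Prime 2) := ⟨Nat.prime_two⟩
  have h1 := Subgroup.card_dvd_of_le (inf_le_left : D2 x y ≤ stabilizer G x)
  rw [card_stab x, card_H h] at h1
  obtain ⟨k, hk⟩ := T.isPGroup'.exists_card_eq
  rw [hk] at h1
  exact (((odd_D2 h hxy).coprime_two_right).pow_right k).dvd_of_dvd_mul_left h1

/-- An involution normalizing a subgroup of odd order inverts it. -/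
theorem inverts_of_odd (h : Hyp T) {K : Subgroup G} (hK : Odd (Nat.card K)) {v : G} (hv : orderOf v = 2)
    (hn : ∀ a ∈ K, v * a * v⁻¹ ∈ K) : ∀ a ∈ K, v * a * v⁻¹ = a⁻¹ := by
  let φ : K →* K :=
    { toFun := fun a => ⟨v * a.1 * v⁻¹, hn a.1 a.2⟩
      map_one' := Subtype.ext (show v * 1 * v⁻¹ = 1 by simp)
      map_mul' := fun a b => Subtype.ext (show v * (a.1 * b.1) * v⁻¹ = v * a.1 * v⁻¹ * (v * b.1 * v⁻¹) by group) }
  have hinvol : Function.Involutive φ := by
    intro a
    refine Subtype.ext (show v * (v * a.1 * v⁻¹) * v⁻¹ = a.1 from ?_)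
    have hvv : v * v = 1 := by rw [← sq, ← hv, pow_orderOf_eq_one]
    have : v⁻¹ * v⁻¹ = 1 := by rw [← mul_inv_rev, hvv, inv_one]
    rw [← mul_assoc, ← mul_assoc, hvv, one_mul, mul_assoc, this, mul_one]
  have hfpf : MonoidHom.FixedPointFree φ := by
    intro a ha
    have h2 : v * a.1 * v⁻¹ = a.1 := congrArg Subtype.val ha
    rw [mul_inv_eq_iff_eq_mul] at h2
    have h3 : a ^ 2 = 1 := Subtype.ext (by simpa using sq_cent h hv h2.symm)
    have h4 : orderOf a ∣ 2 := orderOf_dvd_of_pow_eq_one h3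
    have h5 : orderOf a ∣ Nat.card K := orderOf_dvd_natCard a
    exact orderOf_eq_one_iff.mp (Nat.eq_one_of_dvd_coprimes hK.coprime_two_right h5 h4)
  intro a ha
  exact congrArg Subtype.val (congrFun (hfpf.coe_eq_inv_of_involutive hinvol) ⟨a, ha⟩)

theorem swap_point {v : G} (hv : orderOf v = 2) {x y : Pts T} (hxy : v • x = y) : v • y = x := by
  rw [← hxy, ← mul_smul, ← sq, ← hv, pow_orderOf_eq_one, one_smul]

theorem inverts_D2 (h : Hyp T) {v : G} (hv : orderOf v = 2) {x y : Pts T} (hne : x ≠ y) (hvx : v • x = y) :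
    ∀ a ∈ D2 x y, v * a * v⁻¹ = a⁻¹ := by
  refine inverts_of_odd h (odd_D2 h hne) hv fun a ha => Subgroup.mem_inf.mpr ⟨?_, ?_⟩
  · rw [mem_stabilizer_iff, mul_smul, mul_smul, involution_inv hv, hvx,
      mem_stabilizer_iff.mp ha.2, swap_point hv hvx]
  · rw [mem_stabilizer_iff, mul_smul, mul_smul, involution_inv hv, swap_point hv hvx,
      mem_stabilizer_iff.mp ha.1, hvx]

/-- Involutions mapping `x` to `y`. -/
abbrev Fib (x y : Pts T) := {v : G // orderOf v = 2 ∧ v • x = y}

theorem fib_le (h : Hyp T) {x y : Pts T} (hxy : x ≠ y) : Nat.card (Fib x y) ≤ Nat.card (D2 x y) := by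
  rcases isEmpty_or_nonempty (Fib x y) with he | ⟨⟨v₀⟩⟩
  · simp
  refine Nat.card_le_card_of_injective (fun v => (⟨v₀.1 * v.1, Subgroup.mem_inf.mpr ⟨?_, ?_⟩⟩ : D2 x y)) ?_
  · rw [mem_stabilizer_iff, mul_smul, v.2.2, swap_point v₀.2.1 v₀.2.2]
  · rw [mem_stabilizer_iff, mul_smul, swap_point v.2.1 v.2.2, v₀.2.2]
  · intro a b hab
    exact Subtype.ext (mul_left_cancel (congrArg Subtype.val hab))

theorem one_lt_n (h : Hyp T) : ∃ y : Pts T, y ≠ base T := by
  obtain ⟨g, hg⟩ := exists_not_mem h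
  exact ⟨g • base T, fun hc => hg (fix_base.mp hc)⟩

theorem fib_base (h : Hyp T) {y : Pts T} (hy : y ≠ base T) :
    Nat.card (Fib (base T) y) = m T ∧ Nat.card (D2 (base T) y) = m T := by
  classical
  haveI := Fintype.ofFinite (Pts T)
  let f : {v : G // orderOf v = 2} → Pts T := fun v => v.1 • base T
  have hfib : ∀ z, Nat.card {v // f v = z} = Nat.card (Fib (base T) z) := fun z =>
    Nat.card_congr (Equiv.subtypeSubtypeEquivSubtypeInter (fun v : G => orderOf v = 2) (fun v : G => v • base T = z))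
  have hsum : ∑ z : Pts T, Nat.card (Fib (base T) z) = n T * m T := by
    rw [← card_involutions h, ← Nat.card_congr (Equiv.sigmaFiberEquiv f), Nat.card_sigma]
    exact Finset.sum_congr rfl fun z _ => (hfib z).symm
  have hbase : Nat.card (Fib (base T) (base T)) = m T := by
    rw [← card_inv T]
    exact Nat.card_congr (Equiv.subtypeEquivRight fun v =>
      ⟨fun hv => ⟨mem_of_orderOf_two hv.1 (fix_base.mp hv.2), fun h1 => by
          have := hv.1; rw [h1, orderOf_one] at this; omega⟩,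
        fun hv => ⟨orderOf_T h hv.1 hv.2, fix_base.mpr (T_le hv.1)⟩⟩)
  have hle : ∀ z ∈ Finset.univ.erase (base T), Nat.card (Fib (base T) z) ≤ m T := fun z hz =>
    (fib_le h (Finset.ne_of_mem_erase hz).symm).trans
      (Nat.le_of_dvd (by have := three_le_m h; omega) (D2_dvd h (Finset.ne_of_mem_erase hz).symm))
  have hsum' : ∑ z ∈ Finset.univ.erase (base T), Nat.card (Fib (base T) z) =
      ∑ _z ∈ Finset.univ.erase (base T), m T := by
    rw [Finset.sum_const, Finset.card_erase_of_mem (Finset.mem_univ _), Finset.card_univ, smul_eq_mul,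
      ← Nat.card_eq_fintype_card, show Nat.card (Pts T) = n T from rfl, Nat.sub_one_mul]
    have := Finset.sum_erase_add Finset.univ (fun z => Nat.card (Fib (base T) z)) (Finset.mem_univ (base T))
    rw [hbase, hsum] at this
    omega
  have := (Finset.sum_eq_sum_iff_of_le hle).mp hsum' y (Finset.mem_erase.mpr ⟨hy, Finset.mem_univ _⟩)
  refine ⟨this, le_antisymm ?_ (this ▸ fib_le h hy.symm)⟩
  exact Nat.le_of_dvd (by have := three_le_m h; omega) (D2_dvd h hy.symm)

theorem fib_eq (h : Hyp T) {x y : Pts T} (hxy : x ≠ y) :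
    Nat.card (Fib x y) = m T ∧ Nat.card (D2 x y) = m T := by
  obtain ⟨c, rfl⟩ := exists_point x
  have hy : c⁻¹ • y ≠ base T := fun hc => hxy (by rw [← hc, smul_inv_smul])
  obtain ⟨h1, h2⟩ := fib_base h hy
  constructor
  · rw [← h1]
    refine Nat.card_congr ((MulAut.conj c⁻¹).toEquiv.subtypeEquiv fun v => ?_)
    simp only [MulEquiv.toEquiv_eq_coe, EquivLike.coe_coe, MulAut.conj_apply, inv_inv, mul_smul]
    constructor
    · rintro ⟨hv, hvy⟩
      exact ⟨by rw [show c⁻¹ * v * c = MulAut.conj c⁻¹ v by simp, MulEquiv.orderOf_eq]; exact hv,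
        by rw [hvy]⟩
    · rintro ⟨hv, hvy⟩
      refine ⟨by rwa [show c⁻¹ * v * c = MulAut.conj c⁻¹ v by simp, MulEquiv.orderOf_eq] at hv, ?_⟩
      exact MulAction.injective c⁻¹ hvy
  · rw [← h2]
    refine Nat.card_congr ((MulAut.conj c⁻¹).toEquiv.subtypeEquiv fun v => ?_)
    simp only [MulEquiv.toEquiv_eq_coe, EquivLike.coe_coe, MulAut.conj_apply, inv_inv, Subgroup.mem_inf,
      mem_stabilizer_iff, mul_smul, smul_inv_smul]
    exact ⟨fun hv => ⟨by rw [hv.1, inv_smul_smul], by rw [hv.2]⟩,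
      fun hv => ⟨inv_smul_eq_iff.mp hv.1, MulAction.injective c⁻¹ hv.2⟩⟩

/-- A nontrivial element fixing two points fixes no third. -/
theorem fixed_two_points (h : Hyp T) {d : G} (hd : d ≠ 1) {x y z : Pts T} (hxy : x ≠ y)
    (hx : d • x = x) (hy : d • y = y) (hz : d • z = z) : z = x ∨ z = y := by
  classical
  let F := {p : Pts T // d • p = p}
  let C := Subgroup.centralizer ({d} : Set G)
  have hC_odd : Odd (Nat.card C) := by
    haveI : Fact (Nat.Prime 2) := ⟨Nat.prime_two⟩
    rw [← Nat.not_even_iff_odd, even_iff_two_dvd]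
    intro h2
    obtain ⟨a, ha⟩ := exists_prime_orderOf_dvd_card' 2 h2
    have hd2 : d ^ 2 = 1 := sq_cent h (by rw [Subgroup.orderOf_coe, ha])
      (Subgroup.mem_centralizer_singleton_iff.mp a.2).symm
    exact hxy (fixed_unique h (pos_orderOf_two hd2 hd) hx hy)
  let I := {v : G // orderOf v = 2 ∧ v * d * v⁻¹ = d⁻¹}
  -- the count of involutions inverting `d`, seen from a fixed point `p`
  have hmove : ∀ (p : F) (v : I), v.1 • p.1 ≠ p.1 := by
    rintro ⟨p, hp⟩ ⟨v, hv, hvd⟩ hfix
    obtain ⟨c, rfl⟩ := exists_point p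
    change v • c • base T = c • base T at hfix
    rw [fix_point] at hfix hp
    have hv' : orderOf (c⁻¹ * v * c) = 2 := by
      have := MulEquiv.orderOf_eq (MulAut.conj c⁻¹) v
      rw [MulAut.conj_apply, inv_inv] at this
      rw [this, hv]
    have hT := mem_of_orderOf_two hv' hfix
    set e := c⁻¹ * d * c with he
    have h1 : e * (c⁻¹ * v * c) * e⁻¹ ∈ (T : Subgroup G) := conj_T hp hT
    have h2 : (c⁻¹ * v * c) * (e * (c⁻¹ * v * c) * e⁻¹) = e⁻¹ * e⁻¹ := by
      rw [he]
      calc c⁻¹ * v * c * (c⁻¹ * d * c * (c⁻¹ * v * c) * (c⁻¹ * d * c)⁻¹)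
          = c⁻¹ * (v * d * v) * d⁻¹ * c := by group
        _ = c⁻¹ * (d⁻¹) * d⁻¹ * c := by rw [show v * d * v = d⁻¹ by rw [← hvd, involution_inv hv]]
        _ = (c⁻¹ * d * c)⁻¹ * (c⁻¹ * d * c)⁻¹ := by group
    have h3 : e ^ 4 = 1 := by
      have := sq_T h ((T : Subgroup G).mul_mem hT h1)
      rw [h2, ← mul_inv_rev, ← sq, inv_pow, inv_eq_one, ← pow_mul] at this
      exact this
    have h4 : e ∈ (T : Subgroup G) := mem_of_two_element (k := 2) h3 hp
    have hd2 : d ^ 2 = 1 := by
      have hd' : d = c * e * c⁻¹ := by rw [he]; group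
      rw [hd', conj_pow, sq_T h h4, mul_one, mul_inv_cancel]
    exact hxy (fixed_unique h (pos_orderOf_two hd2 hd) hx hy)
  have hIF : ∀ (v : I) (p : F), d • v.1 • p.1 = v.1 • p.1 := by
    rintro ⟨v, hv, hvd⟩ ⟨p, hp⟩
    have hdv : d * v = v * d⁻¹ := by
      have h1 := hvd
      rw [mul_inv_eq_iff_eq_mul] at h1
      calc d * v = d * (v * d) * d⁻¹ := by group
        _ = d * (d⁻¹ * v) * d⁻¹ := by rw [h1]
        _ = v * d⁻¹ := by group
    show d • v • p = v • p
    rw [← mul_smul, hdv, mul_smul, inv_smul_eq_iff.mpr hp.symm]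
  have hcount : ∀ p : F, Nat.card I = (Nat.card F - 1) * m T := by
    intro p
    let f : I → {q : F // q ≠ p} := fun v =>
      ⟨⟨v.1 • p.1, hIF v p⟩, fun hq => hmove p v (congrArg Subtype.val hq)⟩
    haveI := Fintype.ofFinite {q : F // q ≠ p}
    rw [← Nat.card_congr (Equiv.sigmaFiberEquiv f), Nat.card_sigma]
    have : ∀ q : {q : F // q ≠ p}, Nat.card {v // f v = q} = m T := by
      intro q
      have hne : p.1 ≠ q.1.1 := fun he => q.2 (Subtype.ext he.symm)
      rw [← (fib_eq h hne).1]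
      refine Nat.card_congr
        { toFun := fun v => ⟨v.1.1, v.1.2.1, congrArg (fun r : {q : F // q ≠ p} => r.1.1) v.2⟩
          invFun := fun v => ⟨⟨v.1, v.2.1, inverts_D2 h v.2.1 hne v.2.2 d ⟨p.2, q.1.2⟩⟩,
            Subtype.ext (Subtype.ext v.2.2)⟩
          left_inv := fun _ => rfl
          right_inv := fun _ => rfl }
    rw [Finset.sum_congr rfl fun q _ => this q, Finset.sum_const, Finset.card_univ, smul_eq_mul]
    haveI := Fintype.ofFinite F
    rw [Fintype.card_subtype_compl, Fintype.card_subtype_eq, Nat.card_eq_fintype_card]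
  obtain ⟨u, hu, hux⟩ : ∃ u : G, orderOf u = 2 ∧ u • x = y := by
    have h1 : 0 < Nat.card (Fib x y) := by
      rw [(fib_eq h hxy).1]; have := three_le_m h; omega
    obtain ⟨⟨u, hu⟩⟩ := (Nat.card_pos_iff.mp h1).1
    exact ⟨u, hu⟩
  have hud : u * d * u⁻¹ = d⁻¹ := inverts_D2 h hu hxy hux d ⟨hx, hy⟩
  have hCinv : ∀ a ∈ C, u * a * u⁻¹ = a⁻¹ := by
    refine inverts_of_odd h hC_odd hu fun a ha => ?_
    rw [Subgroup.mem_centralizer_singleton_iff] at ha ⊢
    have hd' : d = u * d⁻¹ * u⁻¹ := by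
      have := congrArg (fun t => t⁻¹) hud
      simpa [mul_assoc] using this.symm
    calc u * a * u⁻¹ * d = u * a * u⁻¹ * (u * d⁻¹ * u⁻¹) := by rw [← hd']
      _ = u * (a * d⁻¹) * u⁻¹ := by group
      _ = u * (d⁻¹ * a) * u⁻¹ := by rw [show a * d⁻¹ = d⁻¹ * a from (Commute.inv_right ha).eq]
      _ = u * d⁻¹ * u⁻¹ * (u * a * u⁻¹) := by group
      _ = d * (u * a * u⁻¹) := by rw [← hd']
  have hui := involution_inv hu
  have hu2 : u * u = 1 := by rw [← sq, ← hu, pow_orderOf_eq_one]
  have hIC : Nat.card I = Nat.card C := by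
    refine Nat.card_congr
      { toFun := fun v => ⟨u * v.1, Subgroup.mem_centralizer_singleton_iff.mpr ?_⟩
        invFun := fun a => ⟨u * a.1, ?_, ?_⟩
        left_inv := fun v => Subtype.ext (show u * (u * v.1) = v.1 by rw [← mul_assoc, hu2, one_mul])
        right_inv := fun a => Subtype.ext (show u * (u * a.1) = a.1 by rw [← mul_assoc, hu2, one_mul]) }
    · have h1 := v.2.2
      rw [mul_inv_eq_iff_eq_mul] at h1
      have h2 := hud
      rw [mul_inv_eq_iff_eq_mul] at h2
      calc u * v.1 * d = u * (d⁻¹ * v.1) := by rw [mul_assoc, h1]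
        _ = d * (d⁻¹ * u) * (d⁻¹ * v.1) := by group
        _ = d * (u * d) * (d⁻¹ * v.1) := by rw [h2]
        _ = d * (u * v.1) := by group
    · refine pos_orderOf_two ?_ ?_
      · rw [sq]
        have h1 := hCinv a.1 a.2
        rw [hui] at h1
        calc u * a.1 * (u * a.1) = u * a.1 * u * a.1 := by group
          _ = 1 := by rw [h1, inv_mul_cancel]
      · intro h1
        have : (a : G) = u := by
          have := eq_inv_of_mul_eq_one_right h1
          rwa [hui] at this
        have hco := Subgroup.mem_centralizer_singleton_iff.mp a.2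
        rw [this] at hco
        have h2 := hud
        rw [hco, mul_inv_cancel_right] at h2
        exact hxy (fixed_unique h (pos_orderOf_two (by rw [sq]; nth_rw 2 [h2]; exact mul_inv_cancel d) hd) hx hy)
    · have hco := Subgroup.mem_centralizer_singleton_iff.mp a.2
      calc u * a.1 * d * (u * a.1)⁻¹ = u * (a.1 * d * a.1⁻¹) * u⁻¹ := by group
        _ = u * d * u⁻¹ := by rw [hco, mul_inv_cancel_right]
        _ = d⁻¹ := hud
  -- orbits of `C` on `F`
  let act : MulAction C F :=
    { smul := fun a p => ⟨a.1 • p.1, by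
        rw [← mul_smul, ← Subgroup.mem_centralizer_singleton_iff.mp a.2, mul_smul, p.2]⟩
      one_smul := fun p => Subtype.ext (one_smul G p.1)
      mul_smul := fun a b p => Subtype.ext (mul_smul a.1 b.1 p.1) }
  have hF2 : 2 ≤ Nat.card F := by
    have : Nontrivial F := ⟨⟨⟨x, hx⟩, ⟨y, hy⟩, fun he => hxy (congrArg Subtype.val he)⟩⟩
    exact Finite.one_lt_card
  have hstab : ∀ p : F, Nat.card (stabilizer C p) = m T := by
    intro p
    obtain ⟨q, hq⟩ : ∃ q : F, q ≠ p := by
      have : Nontrivial F := ⟨⟨⟨x, hx⟩, ⟨y, hy⟩, fun he => hxy (congrArg Subtype.val he)⟩⟩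
      exact exists_ne p
    have hne : p.1 ≠ q.1 := fun he => hq (Subtype.ext he.symm)
    let K := (stabilizer C p).map C.subtype
    have hKcard : Nat.card K = Nat.card (stabilizer C p) :=
      Subgroup.card_map_of_injective C.subtype_injective
    rw [← hKcard]
    refine le_antisymm ?_ ?_
    · have hKle : K ≤ stabilizer G p.1 := by
        rintro _ ⟨a, ha, rfl⟩
        exact mem_stabilizer_iff.mpr (congrArg Subtype.val (mem_stabilizer_iff.mp ha))
      have h1 := Subgroup.card_dvd_of_le hKle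
      rw [card_stab, card_H h] at h1
      haveI : Fact (Nat.Prime 2) := ⟨Nat.prime_two⟩
      obtain ⟨k, hk⟩ := T.isPGroup'.exists_card_eq
      rw [hk] at h1
      have hodd : Odd (Nat.card K) :=
        hC_odd.of_dvd_nat (Subgroup.card_dvd_of_le (Subgroup.map_subtype_le _))
      exact Nat.le_of_dvd (by have := three_le_m h; omega)
        ((hodd.coprime_two_right.pow_right k).dvd_of_dvd_mul_left h1)
    · rw [← (fib_eq h hne).2]
      refine Subgroup.card_le_of_le fun e he => ?_
      have hec : e * d = d * e := by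
        obtain ⟨v, hv, hvp⟩ : ∃ v : G, orderOf v = 2 ∧ v • p.1 = q.1 := by
          have h1 : 0 < Nat.card (Fib p.1 q.1) := by
            rw [(fib_eq h hne).1]; have := three_le_m h; omega
          obtain ⟨⟨v, hv⟩⟩ := (Nat.card_pos_iff.mp h1).1
          exact ⟨v, hv⟩
        have h1 := inverts_D2 h hv hne hvp e he
        have h2 := inverts_D2 h hv hne hvp d ⟨p.2, q.2⟩
        have h3 := inverts_D2 h hv hne hvp (e * d) ((D2 p.1 q.1).mul_mem he ⟨p.2, q.2⟩)
        have h4 : e⁻¹ * d⁻¹ = (e * d)⁻¹ := by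
          rw [← h1, ← h2, ← h3]; group
        rw [← mul_inv_rev, inv_inj] at h4
        exact h4.symm
      exact ⟨⟨e, Subgroup.mem_centralizer_singleton_iff.mpr hec⟩,
        mem_stabilizer_iff.mpr (Subtype.ext (mem_stabilizer_iff.mp he.1)), rfl⟩
  have horb : ∀ p : F, (orbit C p).ncard = Nat.card F - 1 := by
    intro p
    have h1 := (stabilizer C p).index_mul_card
    rw [index_stabilizer, hstab p, ← hIC, hcount p] at h1
    exact Nat.eq_of_mul_eq_mul_right (by have := three_le_m h; omega) h1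
  -- the complement of an orbit is one point, whose orbit is itself
  have hcard2 : Nat.card F = 2 := by
    let O := orbit C (⟨x, hx⟩ : F)
    have hcompl : Oᶜ.ncard = 1 := by
      have h1 : O.ncard = Nat.card F - 1 := horb _
      have h2 : O.ncard + Oᶜ.ncard = Nat.card F := Set.ncard_add_ncard_compl O
      omega
    obtain ⟨p, hp⟩ := Set.ncard_eq_one.mp hcompl
    have hsub : orbit C p ⊆ Oᶜ := by
      rintro q ⟨a, rfl⟩ hmem
      have hpO : p ∈ O := by
        have h1 : a⁻¹ • (a • p) ∈ O := (mem_orbit_iff.mp hmem).elim fun b hb =>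
          ⟨a⁻¹ * b, by simp [mul_smul, hb]⟩
        rwa [inv_smul_smul] at h1
      have : p ∈ Oᶜ := by rw [hp]; exact rfl
      exact this hpO
    have h1 := Set.ncard_le_ncard hsub
    rw [horb, hcompl] at h1
    omega
  have hne : (⟨x, hx⟩ : F) ≠ ⟨y, hy⟩ := fun he => hxy (congrArg Subtype.val he)
  have huniv := Set.eq_of_subset_of_ncard_le (Set.subset_univ ({⟨x, hx⟩, ⟨y, hy⟩} : Set F))
    (by rw [Set.ncard_univ, hcard2, Set.ncard_pair hne])
  have hmem : (⟨z, hz⟩ : F) ∈ ({⟨x, hx⟩, ⟨y, hy⟩} : Set F) := by rw [huniv]; exact Set.mem_univ _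
  rcases hmem with he | he
  · exact Or.inl (congrArg Subtype.val he)
  · exact Or.inr (congrArg Subtype.val he)

theorem T_free (h : Hyp T) {t : G} (ht : t ∈ (T : Subgroup G)) {x : Pts T} (hx : x ≠ base T)
    (hfix : t • x = x) : t = 1 := by
  by_contra ht1
  exact hx (fixed_unique h (orderOf_T h ht ht1) hfix (fix_base.mpr (T_le ht)))

theorem card_points (h : Hyp T) : n T = Nat.card T + 1 := by
  classical
  haveI := Fintype.ofFinite (Pts T)
  let X := {x : Pts T // x ≠ base T}
  have hX : Nat.card X = n T - 1 := by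
    rw [Nat.card_eq_fintype_card, Fintype.card_subtype_compl, Fintype.card_subtype_eq,
      ← Nat.card_eq_fintype_card]
    rfl
  obtain ⟨y₀, hy₀⟩ := one_lt_n h
  have h1 : Nat.card T ≤ Nat.card X := by
    refine Nat.card_le_card_of_injective
      (fun t : (T : Subgroup G) => (⟨t.1 • y₀, fun hc => hy₀ ?_⟩ : X)) ?_
    · have := fix_base.mpr (T_le ((T : Subgroup G).inv_mem t.2))
      rw [← this, ← hc, inv_smul_smul]
    · intro a b hab
      have h2 : a.1 • y₀ = b.1 • y₀ := congrArg Subtype.val hab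
      have := T_free h ((T : Subgroup G).mul_mem ((T : Subgroup G).inv_mem b.2) a.2) hy₀
        (by rw [mul_smul, h2, inv_smul_smul])
      exact Subtype.ext (inv_mul_eq_one.mp this).symm
  have h2 : Nat.card X * (m T - 1) ≤ Nat.card T * (m T - 1) := by
    let S : X → Type _ := fun x => {d : G // d ∈ D2 (base T) x.1 ∧ d ≠ 1}
    have hS : ∀ x : X, Nat.card (S x) = m T - 1 := fun x => by
      have e : S x ≃ {d : D2 (base T) x.1 // d ≠ 1} :=
        { toFun := fun t => ⟨⟨t.1, t.2.1⟩, fun h1 => t.2.2 (congrArg Subtype.val h1)⟩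
          invFun := fun t => ⟨t.1.1, t.1.2, fun h1 => t.2 (Subtype.ext h1)⟩
          left_inv := fun _ => rfl
          right_inv := fun _ => rfl }
      haveI := Fintype.ofFinite (D2 (base T) x.1)
      rw [Nat.card_congr e, Nat.card_eq_fintype_card, Fintype.card_subtype_compl, Fintype.card_subtype_eq,
        ← Nat.card_eq_fintype_card, (fib_eq h x.2.symm).2]
    have hout : Nat.card {g : H T // (g : G) ∉ (T : Subgroup G)} = Nat.card T * (m T - 1) := by
      haveI := Fintype.ofFinite (H T)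
      have hc : Nat.card {g : H T // (g : G) ∈ (T : Subgroup G)} = Nat.card T :=
        Nat.card_congr (Subgroup.subgroupOfEquivOfLe T_le).toEquiv
      rw [Nat.card_eq_fintype_card, Fintype.card_subtype_compl, ← Nat.card_eq_fintype_card,
        ← Nat.card_eq_fintype_card, card_H h, hc, Nat.mul_sub_one]
    rw [← hout]
    calc Nat.card X * (m T - 1) = Nat.card (Σ x : X, S x) := by
          haveI := Fintype.ofFinite X
          rw [Nat.card_sigma, Finset.sum_congr rfl fun x _ => hS x, Finset.sum_const, Finset.card_univ,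
            smul_eq_mul, Nat.card_eq_fintype_card]
      _ ≤ _ := by
          refine Nat.card_le_card_of_injective
            (fun d => ⟨⟨d.2.1, fix_base.mp (mem_stabilizer_iff.mp d.2.2.1.1)⟩, fun hT => ?_⟩) ?_
          · exact d.2.2.2 (T_free h hT d.1.2 (mem_stabilizer_iff.mp d.2.2.1.2))
          · rintro ⟨x, a, ha, ha1⟩ ⟨x', b, hb, hb1⟩ hab
            have hab' : a = b := congrArg (fun t => ((t.1 : H T) : G)) hab
            subst hab'
            rcases fixed_two_points h ha1 x.2.symm (mem_stabilizer_iff.mp ha.1) (mem_stabilizer_iff.mp ha.2)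
              (mem_stabilizer_iff.mp hb.2) with h3 | h3
            · exact absurd h3 x'.2
            · obtain rfl : x = x' := Subtype.ext h3.symm
              rfl
  have h3 := Nat.le_of_mul_le_mul_right h2 (by have := three_le_m h; omega)
  have : 0 < n T := Nat.card_pos
  omega

theorem T_regular (h : Hyp T) {x y : Pts T} (hx : x ≠ base T) (hy : y ≠ base T) :
    ∃! t : G, t ∈ T ∧ t • x = y := by
  classical
  haveI := Fintype.ofFinite (Pts T)
  have hmv : ∀ t : (T : Subgroup G), t.1 • x ≠ base T := fun t hc => hx (by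
    have := fix_base.mpr (T_le ((T : Subgroup G).inv_mem t.2))
    rw [← this, ← hc, inv_smul_smul])
  let f : ↥(T : Subgroup G) → {z : Pts T // z ≠ base T} := fun t => ⟨t.1 • x, hmv t⟩
  have hinj : Function.Injective f := by
    intro a b hab
    have h2 : a.1 • x = b.1 • x := congrArg Subtype.val hab
    have := T_free h ((T : Subgroup G).mul_mem ((T : Subgroup G).inv_mem b.2) a.2) hx
      (by rw [mul_smul, h2, inv_smul_smul])
    exact Subtype.ext (inv_mul_eq_one.mp this).symm
  have hbij := hinj.bijective_of_nat_card_le (by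
    rw [Nat.card_eq_fintype_card, Fintype.card_subtype_compl, Fintype.card_subtype_eq,
      ← Nat.card_eq_fintype_card]
    have := card_points h
    change n T = _ at this
    change n T - 1 ≤ Nat.card T
    omega)
  obtain ⟨t, ht⟩ := hbij.2 ⟨y, hy⟩
  refine ⟨t.1, ⟨t.2, congrArg Subtype.val ht⟩, ?_⟩
  rintro s ⟨hs, hsx⟩
  exact congrArg Subtype.val (hinj (a₁ := ⟨s, hs⟩) (a₂ := t) (Subtype.ext (hsx.trans (congrArg Subtype.val ht).symm)))

/-- Only the identity fixes three points. -/
theorem eq_one_of_three (h : Hyp T) {g : G} {x y z : Pts T} (hxy : x ≠ y) (hxz : x ≠ z) (hyz : y ≠ z)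
    (hx : g • x = x) (hy : g • y = y) (hz : g • z = z) : g = 1 := by
  by_contra hg
  rcases fixed_two_points h hg hxy hx hy hz with he | he
  · exact hxz he.symm
  · exact hyz he.symm

/-- Triple transitivity. -/
theorem three_points (h : Hyp T) {x₁ x₂ x₃ y₁ y₂ y₃ : Pts T} (hx₁₂ : x₁ ≠ x₂) (hx₁₃ : x₁ ≠ x₃)
    (hx₂₃ : x₂ ≠ x₃) (hy₁₂ : y₁ ≠ y₂) (hy₁₃ : y₁ ≠ y₃) (hy₂₃ : y₂ ≠ y₃) :
    ∃ g : G, g • x₁ = y₁ ∧ g • x₂ = y₂ ∧ g • x₃ = y₃ := by
  classical
  obtain ⟨p, hp⟩ := one_lt_n h
  have h2 : ∀ a b : Pts T, a ≠ b → ∃ g : G, g • a = base T ∧ g • b = p := by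
    intro a b hab
    obtain ⟨c, rfl⟩ := exists_point a
    have hb : c⁻¹ • b ≠ base T := fun hc => hab (by rw [← hc, smul_inv_smul])
    obtain ⟨t, ⟨htT, htb⟩, -⟩ := T_regular h hb hp
    exact ⟨t * c⁻¹, by rw [mul_smul, inv_smul_smul, fix_base.mpr (T_le htT)], by rw [mul_smul, htb]⟩
  obtain ⟨a, ha₁, ha₂⟩ := h2 _ _ hx₁₂
  obtain ⟨b, hb₁, hb₂⟩ := h2 _ _ hy₁₂
  let X := {z : Pts T // z ≠ base T ∧ z ≠ p}
  have ha₃ : a • x₃ ≠ base T ∧ a • x₃ ≠ p :=
    ⟨fun hc => hx₁₃ (MulAction.injective a (ha₁.trans hc.symm)),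
      fun hc => hx₂₃ (MulAction.injective a (ha₂.trans hc.symm))⟩
  have hb₃ : b • y₃ ≠ base T ∧ b • y₃ ≠ p :=
    ⟨fun hc => hy₁₃ (MulAction.injective b (hb₁.trans hc.symm)),
      fun hc => hy₂₃ (MulAction.injective b (hb₂.trans hc.symm))⟩
  let f : D2 (base T) p → X := fun d => ⟨d.1 • (a • x₃),
    fun hc => ha₃.1 (MulAction.injective d.1 (hc.trans (mem_stabilizer_iff.mp d.2.1).symm)),
    fun hc => ha₃.2 (MulAction.injective d.1 (hc.trans (mem_stabilizer_iff.mp d.2.2).symm))⟩
  have hinj : Function.Injective f := by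
    intro d e hde
    have h3 : d.1 • (a • x₃) = e.1 • (a • x₃) := congrArg Subtype.val hde
    have h4 : e⁻¹ * d ∈ (⊤ : Subgroup (D2 (base T) p)) := Subgroup.mem_top _
    have := eq_one_of_three h (g := ((e⁻¹ * d : D2 (base T) p) : G)) hp.symm ha₃.1.symm ha₃.2.symm
      (mem_stabilizer_iff.mp (e⁻¹ * d).2.1) (mem_stabilizer_iff.mp (e⁻¹ * d).2.2)
      (by rw [Subgroup.coe_mul, Subgroup.coe_inv, mul_smul, h3, inv_smul_smul])
    replace this := OneMemClass.coe_eq_one.mp this
    exact (inv_mul_eq_one.mp this).symm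
  haveI := Fintype.ofFinite (Pts T)
  have hXcard : Nat.card X = m T := by
    have : (Finset.univ.filter fun z : Pts T => z ≠ base T ∧ z ≠ p) = (Finset.univ.erase (base T)).erase p := by
      ext z; simp [and_comm]
    rw [Nat.card_eq_fintype_card, Fintype.card_subtype, this,
      Finset.card_erase_of_mem (Finset.mem_erase.mpr ⟨hp, Finset.mem_univ _⟩),
      Finset.card_erase_of_mem (Finset.mem_univ _), Finset.card_univ, ← Nat.card_eq_fintype_card]
    have h5 := card_points h
    have h6 := card_T_eq T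
    change Nat.card (Pts T) = _ at h5
    omega
  obtain ⟨d, hd⟩ := (hinj.bijective_of_nat_card_le (by rw [hXcard, (fib_eq h hp.symm).2])).2 ⟨b • y₃, hb₃⟩
  refine ⟨b⁻¹ * (d.1 * a), ?_, ?_, ?_⟩
  · rw [mul_smul, mul_smul, ha₁, mem_stabilizer_iff.mp d.2.1, ← hb₁, inv_smul_smul]
  · rw [mul_smul, mul_smul, ha₂, mem_stabilizer_iff.mp d.2.2, ← hb₂, inv_smul_smul]
  · rw [mul_smul, mul_smul, show d.1 • a • x₃ = b • y₃ from congrArg Subtype.val hd, inv_smul_smul]

end Cfsg.Agent.TwoFusion.ElemCent
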